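import Cfsg.Agent.H613.KKL.Defs

/-!
# S4546, row `A_n`: no configuration in the alternating groups (helper731)

Let `a ∈ D#`. A restriction of `a` to an `⟨a, x⟩`-invariant set commutes with `x`; if it is even and nontrivial it
moves as many points as `a` (all involutions of `C(x)` are conjugate). By the pigeonhole principle the support of `a`
is the union of at most two `⟨a, x⟩`-orbits, hence of at most four `x`-cycles. Some `b ∈ D#` fixes all of them, and
`a b` moves too many points.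
-/

set_option autoImplicit false
set_option linter.unusedSectionVars false
set_option linter.style.haveILetI false
set_option linter.unusedVariables false

open Equiv Equiv.Perm Cfsg Cfsg.Agent.H613.KKL

namespace Cfsg.Agent.H731.KKL

section Res

variable {Ω : Type*} [Fintype Ω] [DecidableEq Ω]

open Classical in
/-- the restriction of the involution `a` to the invariant set `W` -/
noncomputable def res (a : Perm Ω) (ha : a * a = 1) (W : Set Ω) (hW : ∀ z ∈ W, a z ∈ W) : Perm Ω where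
  toFun z := if z ∈ W then a z else z
  invFun z := if z ∈ W then a z else z
  left_inv z := by
    have h2 : a (a z) = z := by rw [← Perm.mul_apply, ha, Perm.one_apply]
    by_cases h : z ∈ W
    · simp only [h, if_true, hW z h, h2]
    · simp only [h, if_false]
  right_inv z := by
    have h2 : a (a z) = z := by rw [← Perm.mul_apply, ha, Perm.one_apply]
    by_cases h : z ∈ W
    · simp only [h, if_true, hW z h, h2]
    · simp only [h, if_false]

variable {a : Perm Ω} (ha : a * a = 1) {W : Set Ω} (hW : ∀ z ∈ W, a z ∈ W)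

theorem res_mem {z : Ω} (h : z ∈ W) : res a ha W hW z = a z := if_pos h

theorem res_not_mem {z : Ω} (h : z ∉ W) : res a ha W hW z = z := if_neg h

theorem res_sq : res a ha W hW * res a ha W hW = 1 := by
  ext z
  exact (res a ha W hW).left_inv z

theorem res_comm {x : Perm Ω} (hx : a * x = x * a) (hxW : ∀ z, x z ∈ W ↔ z ∈ W) :
    res a ha W hW * x = x * res a ha W hW := by
  ext z
  rw [Perm.mul_apply, Perm.mul_apply]
  by_cases h : z ∈ W
  · rw [res_mem ha hW h, res_mem ha hW ((hxW z).2 h), ← Perm.mul_apply, hx, Perm.mul_apply]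
  · rw [res_not_mem ha hW h, res_not_mem ha hW (fun h' => h ((hxW z).1 h'))]

theorem mem_res_support {z : Ω} (hs : ∀ z ∈ W, a z ≠ z) : z ∈ (res a ha W hW).support ↔ z ∈ W := by
  rw [Perm.mem_support]
  by_cases h : z ∈ W
  · rw [res_mem ha hW h]
    exact ⟨fun _ => h, fun _ => hs z h⟩
  · rw [res_not_mem ha hW h]
    simp [h]

theorem res_union {W' : Set Ω} (hW' : ∀ z ∈ W', a z ∈ W') (hd : ∀ z ∈ W, z ∉ W')
    (hU : ∀ z ∈ W ∪ W', a z ∈ W ∪ W') :
    res a ha (W ∪ W') hU = res a ha W hW * res a ha W' hW' := by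
  ext z
  rw [Perm.mul_apply]
  by_cases h : z ∈ W
  · rw [res_not_mem ha hW' (hd z h), res_mem ha hW h, res_mem ha hU (Or.inl h)]
  · by_cases h' : z ∈ W'
    · rw [res_mem ha hW' h', res_mem ha hU (Or.inr h'), res_not_mem ha hW]
      intro h1
      exact hd _ h1 (hW' z h')
    · rw [res_not_mem ha hW' h', res_not_mem ha hW h, res_not_mem ha hU]
      rintro (h1 | h1)
      · exact h h1
      · exact h' h1

end Res

section Main

variable {n : ℕ} {D : Subgroup (alternatingGroup (Fin n))} {x : alternatingGroup (Fin n)}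

/-- all involutions of `C(x)` move the same number of points -/
theorem exists_s (hc : Cfg0 D x) : ∃ s : ℕ, 0 < s ∧
    ∀ g : Perm (Fin n), sign g = 1 → g * g = 1 → g ≠ 1 → g * (x : Perm (Fin n)) = x * g → g.support.card = s := by
  obtain ⟨y, hy⟩ := hc.seven
  have h8 := hc.e8.card
  obtain ⟨a, haD, ha1⟩ : ∃ a ∈ D, a ≠ 1 := by
    have h1 : D ≠ ⊥ := by
      rintro rfl
      rw [Subgroup.card_bot] at h8
      omega
    obtain ⟨a, ha⟩ := Subgroup.ne_bot_iff_exists_ne_one.1 h1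
    exact ⟨a, a.2, fun h => ha (Subtype.ext h)⟩
  have hconj : ∀ b ∈ D, b ≠ 1 → (b : Perm (Fin n)).support.card = (a : Perm (Fin n)).support.card := by
    intro b hb hb1
    obtain ⟨k, hk⟩ := hy.trans a haD ha1 b hb hb1
    rw [← hk]
    simp only [Subgroup.coe_mul, Subgroup.coe_inv]
    exact Perm.card_support_conj
  refine ⟨(a : Perm (Fin n)).support.card, ?_, ?_⟩
  · rw [Finset.card_pos, Finset.nonempty_iff_ne_empty, Ne, Perm.support_eq_empty_iff]
    intro h
    exact ha1 (Subtype.ext h)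
  · intro g hg hgg hg1 hgx
    set γ : alternatingGroup (Fin n) := ⟨g, Perm.mem_alternatingGroup.2 hg⟩ with hγ
    have h2 : γ ^ 2 = 1 := by
      apply Subtype.ext
      rw [pow_two]
      exact hgg
    obtain ⟨c, -, hcQ⟩ := hc.syl (Subgroup.zpowers γ) (by
      rintro ⟨_, k, rfl⟩
      refine ⟨1, Subtype.ext ?_⟩
      simp only [pow_one, Subgroup.coe_pow, Subgroup.coe_one]
      rw [← zpow_natCast, ← zpow_mul, mul_comm, zpow_mul]
      norm_cast
      rw [h2, one_zpow]) (by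
      rintro _ ⟨k, rfl⟩
      have h3 : Commute γ x := Subtype.ext hgx
      exact (h3.zpow_left k).eq)
    have h4 := hcQ γ (Subgroup.mem_zpowers γ)
    have h5 : c * γ * c⁻¹ ≠ 1 := by
      intro h
      apply hg1
      have h6 : γ = 1 := conj_eq_one_iff.1 h
      exact congrArg Subtype.val h6
    rw [← hconj _ h4 h5]
    simp only [Subgroup.coe_mul, Subgroup.coe_inv]
    exact Perm.card_support_conj.symm

/-- three disjoint invariant sets -/
theorem no_three {s : ℕ} {X A : Perm (Fin n)} (hs : ∀ g : Perm (Fin n), sign g = 1 → g * g = 1 → g ≠ 1 → g * X = X * g →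
    g.support.card = s) (hA : A * A = 1) (hAX : A * X = X * A) (hA1 : A.support.card = s) {W₁ W₂ W₃ : Set (Fin n)}
    (i1 : ∀ z ∈ W₁, A z ∈ W₁) (i2 : ∀ z ∈ W₂, A z ∈ W₂) (i3 : ∀ z ∈ W₃, A z ∈ W₃)
    (j1 : ∀ z, X z ∈ W₁ ↔ z ∈ W₁) (j2 : ∀ z, X z ∈ W₂ ↔ z ∈ W₂) (j3 : ∀ z, X z ∈ W₃ ↔ z ∈ W₃)
    (k1 : ∀ z ∈ W₁, A z ≠ z) (k2 : ∀ z ∈ W₂, A z ≠ z) (k3 : ∀ z ∈ W₃, A z ≠ z)
    (l1 : W₁.Nonempty) (l2 : W₂.Nonempty) (l3 : W₃.Nonempty)
    (d12 : ∀ z ∈ W₁, z ∉ W₂) (d13 : ∀ z ∈ W₁, z ∉ W₃) (d23 : ∀ z ∈ W₂, z ∉ W₃) : False := by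
  -- two sets whose restrictions have the same sign
  have key : ∀ {U V T : Set (Fin n)} (iU : ∀ z ∈ U, A z ∈ U) (iV : ∀ z ∈ V, A z ∈ V),
      (∀ z, X z ∈ U ↔ z ∈ U) → (∀ z, X z ∈ V ↔ z ∈ V) → (∀ z ∈ U, A z ≠ z) → (∀ z ∈ V, A z ≠ z) →
      (∀ z ∈ T, A z ≠ z) → U.Nonempty → T.Nonempty → (∀ z ∈ U, z ∉ V) → (∀ z ∈ U, z ∉ T) → (∀ z ∈ V, z ∉ T) →
      sign (res A hA U iU) = sign (res A hA V iV) → False := by
    intro U V T iU iV jU jV kU kV kT lU lT dUV dUT dVT hsg
    have iUV : ∀ z ∈ U ∪ V, A z ∈ U ∪ V := by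
      rintro z (h | h)
      · exact Or.inl (iU z h)
      · exact Or.inr (iV z h)
    have kUV : ∀ z ∈ U ∪ V, A z ≠ z := by
      rintro z (h | h)
      · exact kU z h
      · exact kV z h
    obtain ⟨u, hu⟩ := lU
    obtain ⟨t, ht⟩ := lT
    have h1 := hs (res A hA (U ∪ V) iUV) (by
      rw [res_union hA iU iV dUV iUV, Perm.sign_mul, hsg, Int.units_mul_self]) (res_sq hA iUV) (by
      intro h
      have h2 := res_mem hA iUV (z := u) (Or.inl hu)
      rw [h, Perm.one_apply] at h2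
      exact kU u hu h2.symm) (res_comm hA iUV hAX (by
      intro z
      constructor
      · rintro (h | h)
        · exact Or.inl ((jU z).1 h)
        · exact Or.inr ((jV z).1 h)
      · rintro (h | h)
        · exact Or.inl ((jU z).2 h)
        · exact Or.inr ((jV z).2 h)))
    have h2 : (res A hA (U ∪ V) iUV).support ⊂ A.support := by
      rw [Finset.ssubset_iff_of_subset]
      · refine ⟨t, Perm.mem_support.2 (kT t ht), ?_⟩
        rw [mem_res_support hA iUV kUV]
        rintro (h | h)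
        · exact dUT t h ht
        · exact dVT t h ht
      · intro z hz
        rw [mem_res_support hA iUV kUV] at hz
        exact Perm.mem_support.2 (kUV z hz)
    have h3 := Finset.card_lt_card h2
    omega
  rcases Int.units_eq_one_or (sign (res A hA W₁ i1)) with h1 | h1 <;>
  rcases Int.units_eq_one_or (sign (res A hA W₂ i2)) with h2 | h2 <;>
  rcases Int.units_eq_one_or (sign (res A hA W₃ i3)) with h3 | h3
  · exact key i1 i2 j1 j2 k1 k2 k3 l1 l3 d12 d13 d23 (h1.trans h2.symm)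
  · exact key i1 i2 j1 j2 k1 k2 k3 l1 l3 d12 d13 d23 (h1.trans h2.symm)
  · exact key i1 i3 j1 j3 k1 k3 k2 l1 l2 d13 d12 (fun z hz hz' => d23 z hz' hz) (h1.trans h3.symm)
  · exact key i2 i3 j2 j3 k2 k3 k1 l2 l1 d23 (fun z hz hz' => d12 z hz' hz) (fun z hz hz' => d13 z hz' hz)
      (h2.trans h3.symm)
  · exact key i2 i3 j2 j3 k2 k3 k1 l2 l1 d23 (fun z hz hz' => d12 z hz' hz) (fun z hz hz' => d13 z hz' hz)
      (h2.trans h3.symm)
  · exact key i1 i3 j1 j3 k1 k3 k2 l1 l2 d13 d12 (fun z hz hz' => d23 z hz' hz) (h1.trans h3.symm)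
  · exact key i1 i2 j1 j2 k1 k2 k3 l1 l3 d12 d13 d23 (h1.trans h2.symm)
  · exact key i1 i2 j1 j2 k1 k2 k3 l1 l3 d12 d13 d23 (h1.trans h2.symm)

/-- **No configuration in the alternating groups.** -/
theorem noCfg_alt (n : ℕ) : NoCfg (alternatingGroup (Fin n)) := by
  intro D x hc
  obtain ⟨s, hs0, hs⟩ := exists_s hc
  have h8 := hc.e8.card
  obtain ⟨N, hN⟩ := hc.odd
  set X : Perm (Fin n) := (x : Perm (Fin n)) with hX
  have hXN : X ^ (2 * N + 1) = 1 := by
    have h1 := pow_orderOf_eq_one x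
    rw [hN] at h1
    have h2 := congrArg Subtype.val h1
    simpa using h2
  -- elements of `D` as permutations
  have dsq : ∀ d ∈ D, (d : Perm (Fin n)) * d = 1 := fun d hd => congrArg Subtype.val (hc.e8.inv d hd)
  have dx : ∀ d ∈ D, (d : Perm (Fin n)) * X = X * d := fun d hd => congrArg Subtype.val (hc.comm d hd)
  have dcomm : ∀ d ∈ D, ∀ e ∈ D, d * e = e * d := by
    intro d hd e he
    have h1 := hc.e8.inv _ (D.mul_mem hd he)
    have h2 := hc.e8.inv d hd
    have h3 := hc.e8.inv e he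
    calc d * e = d * ((d * e) * (d * e)) * e := by rw [h1, mul_one]
      _ = (d * d) * (e * d) * (e * e) := by group
      _ = e * d := by rw [h2, h3, one_mul, mul_one]
  have dcard : ∀ d ∈ D, d ≠ 1 → (d : Perm (Fin n)).support.card = s := fun d hd hd1 =>
    hs d (Perm.mem_alternatingGroup.1 d.2) (dsq d hd) (fun h => hd1 (Subtype.ext h)) (dx d hd)
  -- `d ω ∈ ⟨X⟩ d' ω` implies `d ω = d' ω`
  have F1 : ∀ d ∈ D, ∀ ω : Fin n, ∀ j : ℤ, (d : Perm (Fin n)) ω = (X ^ j) ω → (d : Perm (Fin n)) ω = ω := by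
    intro d hd ω j h
    have hdj : (d : Perm (Fin n)) * X ^ j = X ^ j * d := ((show Commute (d : Perm (Fin n)) X from dx d hd).zpow_right j).eq
    have h1 : (X ^ j * X ^ j) ω = ω := by
      calc (X ^ j * X ^ j) ω = (X ^ j) ((d : Perm (Fin n)) ω) := by rw [Perm.mul_apply, h]
        _ = (d : Perm (Fin n)) ((X ^ j) ω) := by rw [← Perm.mul_apply, ← hdj, Perm.mul_apply]
        _ = ((d : Perm (Fin n)) * d) ω := by rw [Perm.mul_apply, h]
        _ = ω := by rw [dsq d hd, Perm.one_apply]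
    have h2 : ∀ k : ℕ, ((X ^ j * X ^ j) ^ k) ω = ω := by
      intro k
      induction k with
      | zero => rw [pow_zero, Perm.one_apply]
      | succ k ih => rw [pow_succ, Perm.mul_apply, h1, ih]
    have h3 : (X ^ j * X ^ j) ^ (N + 1) = X ^ j := by
      have h4 : (X ^ j) ^ (2 * N + 1) = 1 := by
        rw [← zpow_natCast, ← zpow_mul, mul_comm, zpow_mul, zpow_natCast, hXN, one_zpow]
      calc (X ^ j * X ^ j) ^ (N + 1) = (X ^ j) ^ (2 * N + 1) * X ^ j := by
            rw [← pow_two, ← pow_mul, ← pow_succ]; congr 1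
        _ = X ^ j := by rw [h4, one_mul]
    have h5 := h2 (N + 1)
    rw [h3] at h5
    rw [h, h5]
  -- the involution `a`
  obtain ⟨a, haD, ha1⟩ : ∃ a ∈ D, a ≠ 1 := by
    have h1 : D ≠ ⊥ := by
      rintro rfl
      rw [Subgroup.card_bot] at h8
      omega
    obtain ⟨a, ha⟩ := Subgroup.ne_bot_iff_exists_ne_one.1 h1
    exact ⟨a, a.2, fun h => ha (Subtype.ext h)⟩
  set A : Perm (Fin n) := (a : Perm (Fin n)) with hA
  have hAA : A * A = 1 := dsq a haD
  have hAX : A * X = X * A := dx a haD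
  have hAA' : ∀ z, A (A z) = z := fun z => by rw [← Perm.mul_apply, hAA, Perm.one_apply]
  have hAXj : ∀ (j : ℤ) (z : Fin n), A ((X ^ j) z) = (X ^ j) (A z) := fun j z => by
    rw [← Perm.mul_apply, ← Perm.mul_apply, ((show Commute A X from hAX).zpow_right j).eq]
  -- orbits
  let O : Fin n → Set (Fin n) := fun ω => {z | ∃ j : ℤ, z = (X ^ j) ω ∨ z = (X ^ j) (A ω)}
  have hself : ∀ ω, ω ∈ O ω := fun ω => ⟨0, Or.inl (by rw [zpow_zero, Perm.one_apply])⟩
  have hOA : ∀ ω z, z ∈ O ω → A z ∈ O ω := by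
    rintro ω z ⟨j, rfl | rfl⟩
    · exact ⟨j, Or.inr (hAXj j ω)⟩
    · exact ⟨j, Or.inl (by rw [hAXj, hAA'])⟩
  have hOX' : ∀ ω z (i : ℤ), z ∈ O ω → (X ^ i) z ∈ O ω := by
    rintro ω z i ⟨j, rfl | rfl⟩
    · exact ⟨i + j, Or.inl (by rw [zpow_add, Perm.mul_apply])⟩
    · exact ⟨i + j, Or.inr (by rw [zpow_add, Perm.mul_apply])⟩
  have hOX : ∀ ω z, X z ∈ O ω ↔ z ∈ O ω := by
    intro ω z
    constructor
    · intro h
      have h1 := hOX' ω _ (-1) h
      rwa [zpow_neg_one, ← Perm.mul_apply, inv_mul_cancel, Perm.one_apply] at h1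
    · intro h
      have h1 := hOX' ω _ 1 h
      rwa [zpow_one] at h1
  have hOsymm : ∀ ω z, z ∈ O ω → ω ∈ O z := by
    rintro ω z ⟨j, rfl | rfl⟩
    · exact ⟨-j, Or.inl (by rw [← Perm.mul_apply, ← zpow_add, neg_add_cancel, zpow_zero, Perm.one_apply])⟩
    · refine ⟨-j, Or.inr ?_⟩
      rw [hAXj, hAA', ← Perm.mul_apply, ← zpow_add, neg_add_cancel, zpow_zero, Perm.one_apply]
  have hOtrans : ∀ ω z w, z ∈ O ω → w ∈ O z → w ∈ O ω := by
    rintro ω z w hz ⟨j, rfl | rfl⟩
    · exact hOX' ω z j hz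
    · exact hOX' ω _ j (hOA ω z hz)
  have hOmoved : ∀ ω z, A ω ≠ ω → z ∈ O ω → A z ≠ z := by
    rintro ω z h ⟨j, rfl | rfl⟩ h1
    · rw [hAXj] at h1
      exact h ((X ^ j).injective h1)
    · rw [hAXj, hAA'] at h1
      exact h ((X ^ j).injective h1).symm
  -- the support of `a` consists of at most two orbits
  obtain ⟨ω₁, hω₁⟩ : ∃ ω, A ω ≠ ω := by
    by_contra hcon
    push Not at hcon
    exact ha1 (Subtype.ext (Perm.ext hcon))
  obtain ⟨ω₂, hω₂, hcov⟩ : ∃ ω₂, A ω₂ ≠ ω₂ ∧ ∀ z, A z ≠ z → z ∈ O ω₁ ∨ z ∈ O ω₂ := by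
    by_cases h1 : ∀ z, A z ≠ z → z ∈ O ω₁
    · exact ⟨ω₁, hω₁, fun z hz => Or.inl (h1 z hz)⟩
    · push Not at h1
      obtain ⟨ω₂, hω₂, h2⟩ := h1
      refine ⟨ω₂, hω₂, ?_⟩
      by_contra hcon
      push Not at hcon
      obtain ⟨ω₃, hω₃, h3, h4⟩ := hcon
      refine no_three hs hAA hAX (dcard a haD ha1) (W₁ := O ω₁) (W₂ := O ω₂) (W₃ := O ω₃) (hOA ω₁) (hOA ω₂) (hOA ω₃)
        (hOX ω₁) (hOX ω₂) (hOX ω₃) (fun z => hOmoved ω₁ z hω₁) (fun z => hOmoved ω₂ z hω₂)
        (fun z => hOmoved ω₃ z hω₃) ⟨ω₁, hself ω₁⟩ ⟨ω₂, hself ω₂⟩ ⟨ω₃, hself ω₃⟩ ?_ ?_ ?_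
      · intro z hz hz'
        exact h2 (hOtrans ω₁ z ω₂ hz (hOsymm ω₂ z hz'))
      · intro z hz hz'
        exact h3 (hOtrans ω₁ z ω₃ hz (hOsymm ω₃ z hz'))
      · intro z hz hz'
        exact h4 (hOtrans ω₂ z ω₃ hz (hOsymm ω₃ z hz'))
  -- an element `b` of `D#` fixing `ω₁`, `ω₂` gives a contradiction
  have fin : ∀ b ∈ D, b ≠ 1 → (b : Perm (Fin n)) ω₁ = ω₁ → (b : Perm (Fin n)) ω₂ = ω₂ → False := by
    intro b hb hb1 h1 h2
    have hbA : ∀ z, (b : Perm (Fin n)) (A z) = A ((b : Perm (Fin n)) z) := fun z => by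
      have := congrArg Subtype.val (dcomm b hb a haD)
      rw [← Perm.mul_apply, ← Perm.mul_apply]
      exact congrArg (fun f : Perm (Fin n) => f z) this
    have hbX : ∀ (j : ℤ) (z : Fin n), (b : Perm (Fin n)) ((X ^ j) z) = (X ^ j) ((b : Perm (Fin n)) z) := fun j z => by
      rw [← Perm.mul_apply, ← Perm.mul_apply,
        ((show Commute (b : Perm (Fin n)) X from dx b hb).zpow_right j).eq]
    have hfix : ∀ ω, (b : Perm (Fin n)) ω = ω → ∀ z ∈ O ω, (b : Perm (Fin n)) z = z := by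
      rintro ω hω z ⟨j, rfl | rfl⟩
      · rw [hbX, hω]
      · rw [hbX, hbA, hω]
    have hdis : ∀ z, A z ≠ z → (b : Perm (Fin n)) z = z := by
      intro z hz
      rcases hcov z hz with h | h
      · exact hfix ω₁ h1 z h
      · exact hfix ω₂ h2 z h
    have hab : Perm.Disjoint A (b : Perm (Fin n)) := by
      intro z
      by_cases h : A z = z
      · exact Or.inl h
      · exact Or.inr (hdis z h)
    have h3 : (A * (b : Perm (Fin n))).support.card = s + s := by
      rw [hab.card_support_mul, dcard a haD ha1, dcard b hb hb1]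
    have h4 := dcard (a * b) (D.mul_mem haD hb) (by
      intro h
      have h5 : a = b := by
        calc a = a * (b * b) := by rw [hc.e8.inv b hb, mul_one]
          _ = (a * b) * b := by group
          _ = b := by rw [h, one_mul]
      rw [← h5] at h1
      exact hω₁ h1)
    rw [Subgroup.coe_mul] at h4
    rw [h4] at h3
    omega
  have dmul : ∀ d e : alternatingGroup (Fin n), ∀ z, ((d * e : alternatingGroup (Fin n)) : Perm (Fin n)) z =
      (d : Perm (Fin n)) ((e : Perm (Fin n)) z) := fun d e z => rfl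
  have dXj : ∀ d ∈ D, ∀ (j : ℤ) (z : Fin n), (d : Perm (Fin n)) ((X ^ j) z) = (X ^ j) ((d : Perm (Fin n)) z) :=
    fun d hd j z => by
      rw [← Perm.mul_apply, ← Perm.mul_apply,
        ((show Commute (d : Perm (Fin n)) X from dx d hd).zpow_right j).eq]
  have dA : ∀ d ∈ D, ∀ z, (d : Perm (Fin n)) (A z) = A ((d : Perm (Fin n)) z) := fun d hd z => by
    have := congrArg Subtype.val (dcomm d hd a haD)
    exact congrArg (fun f : Perm (Fin n) => f z) this
  have dmoved : ∀ d ∈ D, ∀ z, A z ≠ z → A ((d : Perm (Fin n)) z) ≠ (d : Perm (Fin n)) z := by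
    intro d hd z hz h
    rw [← dA d hd] at h
    exact hz ((d : Perm (Fin n)).injective h)
  -- in the orbit of `ω`: `d ω ∈ O ω` gives `d ω = ω` or `a d ω = ω`
  have half : ∀ ω, ∀ d ∈ D, (d : Perm (Fin n)) ω ∈ O ω →
      (d : Perm (Fin n)) ω = ω ∨ ((a * d : alternatingGroup (Fin n)) : Perm (Fin n)) ω = ω := by
    rintro ω d hd ⟨j, h | h⟩
    · exact Or.inl (F1 d hd ω j h)
    · refine Or.inr (F1 (a * d) (D.mul_mem haD hd) ω j ?_)
      rw [dmul, h]
      change A ((X ^ j) (A ω)) = _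
      rw [hAXj, hAA']
  by_cases hcase : ∃ d ∈ D, (d : Perm (Fin n)) ω₁ ∈ O ω₂
  · -- the two stabilizers are equal; pigeonhole
    obtain ⟨d₀, hd₀, h0⟩ := hcase
    have hst : ∀ b ∈ D, (b : Perm (Fin n)) ω₁ = ω₁ → (b : Perm (Fin n)) ω₂ = ω₂ := by
      intro b hb h1
      have h2 : (b : Perm (Fin n)) ((d₀ : Perm (Fin n)) ω₁) = (d₀ : Perm (Fin n)) ω₁ := by
        rw [← dmul, dcomm b hb d₀ hd₀, dmul, h1]
      obtain ⟨j, h3 | h3⟩ := h0
      · rw [h3, dXj b hb] at h2
        exact (X ^ j).injective h2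
      · rw [h3, dXj b hb, dA b hb] at h2
        exact A.injective ((X ^ j).injective h2)
    -- labels
    have hlab : ∀ d : D, ∃ (i : Fin 4) (j : ℤ), ((d : alternatingGroup (Fin n)) : Perm (Fin n)) ω₁ =
        (X ^ j) (![ω₁, A ω₁, ω₂, A ω₂] i) := by
      intro d
      rcases hcov _ (dmoved d d.2 ω₁ hω₁) with ⟨j, h | h⟩ | ⟨j, h | h⟩
      · exact ⟨0, j, h⟩
      · exact ⟨1, j, h⟩
      · exact ⟨2, j, h⟩
      · exact ⟨3, j, h⟩
    choose f j hf using hlab
    haveI : Finite D := Nat.finite_of_card_ne_zero (by omega)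
    haveI : Fintype D := Fintype.ofFinite D
    obtain ⟨d, e, hde, hfe⟩ := Fintype.exists_ne_map_eq_of_card_lt f (by
      rw [Fintype.card_fin, ← Nat.card_eq_fintype_card, h8]; norm_num)
    have h1 := hf d
    have h2 := hf e
    rw [hfe] at h1
    -- `d ω₁ = X^k e ω₁`
    have h3 : ((e * d : D) : alternatingGroup (Fin n)) ∈ D := (e * d).2
    have h4 : (((e * d : D) : alternatingGroup (Fin n)) : Perm (Fin n)) ω₁ = ω₁ := by
      refine F1 _ h3 ω₁ (j d - j e) ?_
      rw [Subgroup.coe_mul, dmul, h1, dXj _ e.2, sub_eq_add_neg, zpow_add, Perm.mul_apply]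
      congr 1
      have h5 : ![ω₁, A ω₁, ω₂, A ω₂] (f e) = (X ^ (-j e)) (((e : alternatingGroup (Fin n)) : Perm (Fin n)) ω₁) := by
        rw [h2, ← Perm.mul_apply, ← zpow_add, neg_add_cancel, zpow_zero, Perm.one_apply]
      rw [h5, dXj _ e.2, ← dmul, hc.e8.inv _ e.2]
      rfl
    refine fin _ h3 ?_ h4 (hst _ h3 h4)
    intro h
    apply hde
    have h5 : (e : alternatingGroup (Fin n)) * d = 1 := h
    have h6 : (d : alternatingGroup (Fin n)) = e := by
      calc (d : alternatingGroup (Fin n)) = ((e : alternatingGroup (Fin n)) * e) * d := by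
            rw [hc.e8.inv _ e.2, one_mul]
        _ = e * (e * d) := by group
        _ = e := by rw [h5, mul_one]
    exact Subtype.ext h6
  · -- both stabilizers have index 2
    push Not at hcase
    have H1 : ∀ d ∈ D, (d : Perm (Fin n)) ω₁ = ω₁ ∨ ((a * d : alternatingGroup (Fin n)) : Perm (Fin n)) ω₁ = ω₁ := by
      intro d hd
      apply half ω₁ d hd
      rcases hcov _ (dmoved d hd ω₁ hω₁) with h | h
      · exact h
      · exact absurd h (hcase d hd)
    have H2 : ∀ d ∈ D, (d : Perm (Fin n)) ω₂ = ω₂ ∨ ((a * d : alternatingGroup (Fin n)) : Perm (Fin n)) ω₂ = ω₂ := by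
      intro d hd
      apply half ω₂ d hd
      rcases hcov _ (dmoved d hd ω₂ hω₂) with h | h
      · exfalso
        -- `d ω₂ ∈ O ω₁`, so `d ω₁ ∈ O ω₂`
        apply hcase d hd
        obtain ⟨j, h1 | h1⟩ := h
        · refine ⟨-j, Or.inl ?_⟩
          have h2 : ω₂ = (X ^ j) ((d : Perm (Fin n)) ω₁) := by
            rw [← dXj d hd, ← h1, ← dmul, hc.e8.inv d hd]; rfl
          rw [h2, ← Perm.mul_apply, ← zpow_add, neg_add_cancel, zpow_zero, Perm.one_apply]
        · refine ⟨-j, Or.inr ?_⟩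
          have h2 : ω₂ = (X ^ j) (A ((d : Perm (Fin n)) ω₁)) := by
            rw [← dA d hd, ← dXj d hd, ← h1, ← dmul, hc.e8.inv d hd]; rfl
          rw [h2, hAXj, hAA', ← Perm.mul_apply, ← zpow_add, neg_add_cancel, zpow_zero, Perm.one_apply]
      · exact h
    -- `d₁`, `d₂` independent modulo `a`
    obtain ⟨d₁, hd₁, d₂, hd₂, hn1, hn2, hn3, hn4, hn5, hn6⟩ : ∃ d₁ ∈ D, ∃ d₂ ∈ D, d₁ ≠ 1 ∧ d₁ ≠ a ∧ d₂ ≠ 1 ∧
        d₂ ≠ a ∧ d₂ ≠ d₁ ∧ d₂ ≠ a * d₁ := by
      classical
      haveI : Finite D := Nat.finite_of_card_ne_zero (by omega)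
      haveI : Fintype D := Fintype.ofFinite D
      have hcard : Fintype.card D = 8 := by rw [← Nat.card_eq_fintype_card, h8]
      have hex : ∀ T : Finset D, T.card < 8 → ∃ d, d ∉ T := by
        intro T hT
        by_contra hcon
        push Not at hcon
        have : T = Finset.univ := Finset.eq_univ_iff_forall.2 hcon
        rw [this, Finset.card_univ, hcard] at hT
        omega
      obtain ⟨d₁, h1⟩ := hex {1, ⟨a, haD⟩} (lt_of_le_of_lt (Finset.card_le_two) (by norm_num))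
      obtain ⟨d₂, h2⟩ := hex {1, ⟨a, haD⟩, d₁, ⟨a, haD⟩ * d₁} (lt_of_le_of_lt (Finset.card_le_four) (by norm_num))
      simp only [Finset.mem_insert, Finset.mem_singleton, not_or] at h1 h2
      refine ⟨d₁, d₁.2, d₂, d₂.2, fun h => h1.1 (Subtype.ext h), fun h => h1.2 (Subtype.ext h),
        fun h => h2.1 (Subtype.ext h), fun h => h2.2.1 (Subtype.ext h), fun h => h2.2.2.1 (Subtype.ext h),
        fun h => h2.2.2.2 (Subtype.ext h)⟩
    -- normalise: `e₁, e₂` fix `ω₁`
    have norm1 : ∀ d ∈ D, ∃ e ∈ D, (e = d ∨ e = a * d) ∧ (e : Perm (Fin n)) ω₁ = ω₁ := by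
      intro d hd
      rcases H1 d hd with h | h
      · exact ⟨d, hd, Or.inl rfl, h⟩
      · exact ⟨a * d, D.mul_mem haD hd, Or.inr rfl, h⟩
    have haa : a * a = 1 := hc.e8.inv a haD
    obtain ⟨e₁, he₁, he1, hf1⟩ := norm1 d₁ hd₁
    obtain ⟨e₂, he₂, he2, hf2⟩ := norm1 d₂ hd₂
    have hne1 : e₁ ≠ 1 := by
      rintro rfl
      rcases he1 with h | h
      · exact hn1 h.symm
      · apply hn2
        calc d₁ = a * (a * d₁) := by rw [← mul_assoc, haa, one_mul]
          _ = a := by rw [← h, mul_one]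
    have hne2 : e₂ ≠ 1 := by
      rintro rfl
      rcases he2 with h | h
      · exact hn3 h.symm
      · apply hn4
        calc d₂ = a * (a * d₂) := by rw [← mul_assoc, haa, one_mul]
          _ = a := by rw [← h, mul_one]
    have hne3 : e₁ * e₂ ≠ 1 := by
      intro h
      have h12 : e₁ = e₂ := by
        calc e₁ = e₁ * (e₂ * e₂) := by rw [hc.e8.inv e₂ he₂, mul_one]
          _ = (e₁ * e₂) * e₂ := by group
          _ = e₂ := by rw [h, one_mul]
      rcases he1 with h1 | h1 <;> rcases he2 with h2 | h2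
      · exact hn5 (by rw [← h2, ← h12, h1])
      · apply hn6
        calc d₂ = a * (a * d₂) := by rw [← mul_assoc, haa, one_mul]
          _ = a * d₁ := by rw [← h2, ← h12, h1]
      · exact hn6 (by rw [← h2, ← h12, h1])
      · apply hn5
        calc d₂ = a * (a * d₂) := by rw [← mul_assoc, haa, one_mul]
          _ = a * (a * d₁) := by rw [← h2, ← h12, h1]
          _ = d₁ := by rw [← mul_assoc, haa, one_mul]
    rcases H2 e₁ he₁ with h | h1
    · exact fin e₁ he₁ hne1 hf1 h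
    rcases H2 e₂ he₂ with h | h2
    · exact fin e₂ he₂ hne2 hf2 h
    refine fin (e₁ * e₂) (D.mul_mem he₁ he₂) hne3 (by rw [dmul, hf2, hf1]) ?_
    have h3 : e₁ * e₂ = (a * e₁) * (a * e₂) := by
      calc e₁ * e₂ = (a * a) * e₁ * e₂ := by rw [haa, one_mul]
        _ = a * (a * e₁) * e₂ := by group
        _ = a * (e₁ * a) * e₂ := by rw [dcomm a haD e₁ he₁]
        _ = _ := by group
    rw [h3, dmul, h2, h1]

theorem E_alt {n : ℕ} (hn : 5 ≤ n) : NoCfg (alternatingGroup (Fin n)) := noCfg_alt n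

end Main

end Cfsg.Agent.H731.KKL
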